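import Groth.Agent.Pi1A.ProperModel
import Groth.Agent.AlgSp.K621.ContrDefs

/-!
# Models of a proper scheme with a morphism to a scheme of finite type over a field (S14992, C1)
-/

set_option autoImplicit false
universe u
open CategoryTheory CategoryTheory.Limits AlgebraicGeometry Topology TopologicalSpace

namespace Groth.Agent.AlgSp.K569.ContrModel

open Groth.Agent.Pi1A.FGLimit

variable {k : Type u} [Field k]

/-- The structure map to `Spec k` of the diagram of the `W₀ ×_{B₀} B'`. -/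
noncomputable def toField {B₀ A : Type u} [CommRing B₀] [CommRing A] [Algebra B₀ A] (c : k →+* B₀)
    {W₀ : Scheme.{u}} (q₀ : W₀ ⟶ Spec (CommRingCat.of B₀)) :
    diag B₀ A q₀ ⟶ (Functor.const _).obj (Spec (CommRingCat.of k)) where
  app i := pbFst (specDiag B₀ A) (specBase B₀ A) q₀ i ≫ q₀ ≫ Spec.map (CommRingCat.ofHom c)
  naturality i j h := by
    rw [← Category.assoc]
    refine (congrArg (· ≫ q₀ ≫ Spec.map (CommRingCat.ofHom c))
      (pbDiag_map_fst (specDiag B₀ A) (specBase B₀ A) q₀ h)).trans ?_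
    exact (Category.comp_id _).symm

theorem exists_model {X : Scheme.{u}} (f : X ⟶ Spec (CommRingCat.of k))
    [LocallyOfFiniteType f] [QuasiCompact f] [IsSeparated f]
    {P A : Type u} [CommRing P] [IsNoetherianRing P] [Algebra k P] [CommRing A] [IsNoetherianRing A]
    [Algebra P A]
    {W : Scheme.{u}} (q : W ⟶ Spec (CommRingCat.of A)) [IsProper q] (φ : W ⟶ X)
    (hφ : φ ≫ f = q ≫ Spec.map (CommRingCat.ofHom ((algebraMap P A).comp (algebraMap k P)))) :
    ∃ (B : Subalgebra P A) (_ : B.FG) (W' : Scheme.{u}) (q' : W' ⟶ Spec (CommRingCat.of B))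
      (φ' : W' ⟶ X) (j : W ⟶ W'),
      IsProper q' ∧
      φ' ≫ f = q' ≫ Spec.map (CommRingCat.ofHom ((algebraMap P B).comp (algebraMap k P))) ∧
      j ≫ φ' = φ ∧ IsPullback j q q' (Spec.map (CommRingCat.ofHom (algebraMap B A))) := by
  have hf : LocallyOfFinitePresentation f := LocallyOfFinitePresentation.iff_locallyOfFiniteType.mpr
    inferInstance
  have hq : LocallyOfFinitePresentation q := LocallyOfFinitePresentation.iff_locallyOfFiniteType.mpr
    inferInstance
  obtain ⟨B₀, hB₀, W₀, q₀, g₀, hq₀, hq₀', hW⟩ :=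
    Groth.Agent.Pi1A.ProperModel.exists_model P A q
  let e : pullback q₀ (toBase B₀ A) ≅ W := hW.isoPullback.symm
  have he₁ : e.hom ≫ g₀ = pullback.fst q₀ (toBase B₀ A) := hW.isoPullback_inv_fst
  have he₂ : e.hom ≫ q = pullback.snd q₀ (toBase B₀ A) := hW.isoPullback_inv_snd
  let c : k →+* B₀ := (algebraMap P B₀).comp (algebraMap k P)
  have hc : Spec.map (CommRingCat.ofHom ((algebraMap P A).comp (algebraMap k P))) =
      toBase B₀ A ≫ Spec.map (CommRingCat.ofHom c) := by
    rw [← Spec.map_comp, ← CommRingCat.ofHom_comp]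
    rfl
  obtain ⟨i, g, hg₁, hg₂⟩ := Scheme.exists_π_app_comp_eq_of_locallyOfFinitePresentation
    (diag B₀ A q₀) (toField c q₀) f (cone B₀ A q₀) (isLimit B₀ A q₀)
    (e.hom ≫ φ) (by
      ext i : 2
      change (cone B₀ A q₀).π.app i ≫ pbFst (specDiag B₀ A) (specBase B₀ A) q₀ i ≫ q₀ ≫
        Spec.map (CommRingCat.ofHom c) = (e.hom ≫ φ) ≫ f
      rw [Category.assoc, hφ, hc, reassoc_of% he₂, ← pullback.condition_assoc]
      exact pbCone_fst_assoc (specDiag B₀ A) (specBase B₀ A) q₀ (specCone B₀ A) (toBase B₀ A)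
        (specCone_base B₀ A) i _)
  let B' : Subalgebra B₀ A := Algebra.adjoin B₀ (i.unop : Set A)
  have h1 : IsPullback ((cone B₀ A q₀).π.app i) (pullback.snd q₀ (toBase B₀ A))
      (pullback.snd q₀ (toBase B₀ B')) (Spec.map (CommRingCat.ofHom (algebraMap B' A))) :=
    pbCone_isPullback (specDiag B₀ A) (specBase B₀ A) q₀ (specCone B₀ A) (toBase B₀ A)
      (specCone_base B₀ A) i
  have h5 : toBase B₀ B' ≫ Spec.map (CommRingCat.ofHom c) = Spec.map (CommRingCat.ofHom
      ((algebraMap P (B'.restrictScalars P)).comp (algebraMap k P))) :=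
    (Spec.map_comp _ _).symm
  have key : ∃ (r : pullback q₀ (toBase B₀ B') ⟶ X)
      (p : pullback q₀ (toBase B₀ A) ⟶ pullback q₀ (toBase B₀ B')),
      p ≫ r = e.hom ≫ φ ∧
      r ≫ f = pullback.fst q₀ (toBase B₀ B') ≫ q₀ ≫ Spec.map (CommRingCat.ofHom c) ∧
      IsPullback p (pullback.snd q₀ (toBase B₀ A))
        (pullback.snd q₀ (toBase B₀ B')) (Spec.map (CommRingCat.ofHom (algebraMap B' A))) :=
    ⟨g, (cone B₀ A q₀).π.app i, hg₁, hg₂, h1⟩
  obtain ⟨r, p, hr₁, hr₂, hp⟩ := key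
  have hr₃ : r ≫ f = pullback.snd q₀ (toBase B₀ B') ≫
      toBase B₀ B' ≫ Spec.map (CommRingCat.ofHom c) := by
    rw [hr₂, pullback.condition_assoc]
  have hj : (e.inv ≫ p) ≫ r = φ := by rw [Category.assoc, hr₁, Iso.inv_hom_id_assoc]
  have hpb : IsPullback (e.inv ≫ p) q (pullback.snd q₀ (toBase B₀ B'))
      (Spec.map (CommRingCat.ofHom (algebraMap B' A))) := by
    refine IsPullback.of_iso hp e (Iso.refl _) (Iso.refl _) (Iso.refl _) ?_ ?_ ?_ ?_
    · rw [Iso.refl_hom, Category.comp_id, Iso.hom_inv_id_assoc]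
    · rw [Iso.refl_hom, Category.comp_id, he₂]
    · rw [Iso.refl_hom, Iso.refl_hom, Category.comp_id, Category.id_comp]
    · rw [Iso.refl_hom, Iso.refl_hom, Category.comp_id, Category.id_comp]
  have hfg : (B'.restrictScalars P).FG := by
    rw [Subalgebra.fg_iff_finiteType]
    have h2 : Algebra.FiniteType P B₀ := (Subalgebra.fg_iff_finiteType B₀).mp hB₀
    have h3 : Algebra.FiniteType B₀ B' := (Subalgebra.fg_iff_finiteType B').mp ⟨i.unop, rfl⟩
    have h4 : Algebra.FiniteType P B' := Algebra.FiniteType.trans h2 h3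
    exact h4
  have hprop : IsProper (pullback.snd q₀ (toBase B₀ B')) := inferInstance
  exact ⟨B'.restrictScalars P, hfg, pullback q₀ (toBase B₀ B'), pullback.snd q₀ (toBase B₀ B'), r,
    e.inv ≫ p, hprop, hr₃.trans (congrArg (pullback.snd q₀ (toBase B₀ B') ≫ ·) h5), hj, hpb⟩

end Groth.Agent.AlgSp.K569.ContrModel
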